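import Mathlib
import Groth.Agent.FlatGenStable.Reduced

/-! Finite morphisms to a reduced scheme with constant fibre rank are flat. -/

set_option autoImplicit false
set_option backward.isDefEq.respectTransparency false

universe u

open CategoryTheory CategoryTheory.Limits AlgebraicGeometry TensorProduct

noncomputable section

namespace Groth.Agent.TorsFlatLib

theorem flat_to_field {K : Type u} [Field K] {Y : Scheme.{u}} (f : Y ⟶ Spec (CommRingCat.of K)) :
    Flat f := by
  haveI : Subsingleton (Spec (CommRingCat.of K)) := inferInstanceAs (Subsingleton (PrimeSpectrum K))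
  infer_instance

/-- The fibre of `f` over some extension of every field-valued point has rank `n`. -/
def HasFibreRank {X Q : Scheme.{u}} (f : Q ⟶ X) (n : ℕ) : Prop :=
  ∀ (K : Type u) [Field K] (j : Spec (CommRingCat.of K) ⟶ X),
    ∃ (L : Type u) (_ : Field L) (l : Spec (CommRingCat.of L) ⟶ Spec (CommRingCat.of K))
      (y : Spec (CommRingCat.of L)), (pullback.snd f (l ≫ j)).finrank y = n

theorem finrank_pullback_comp {X Q : Scheme.{u}} (f : Q ⟶ X) [IsFinite f] {K L : Type u} [Field K]
    [Field L] (l : Spec (CommRingCat.of L) ⟶ Spec (CommRingCat.of K))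
    (j : Spec (CommRingCat.of K) ⟶ X) (y : Spec (CommRingCat.of L)) :
    (pullback.snd f (l ≫ j)).finrank y = (pullback.snd f j).finrank (l y) := by
  haveI : Flat (pullback.snd f (l ≫ j)) := flat_to_field _
  haveI : Flat (pullback.snd f j) := flat_to_field _
  rw [← Scheme.Hom.finrank_pullback_snd, ← pullbackLeftPullbackSndIso_hom_snd f j l,
    Scheme.Hom.finrank_comp_left_of_isIso]

theorem flat_of_hasFibreRank_spec {R B : Type u} [CommRing R] [IsReduced R] [CommRing B]
    [Algebra R B] [Module.Finite R B] (n : ℕ)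
    (H : HasFibreRank (Spec.map (CommRingCat.ofHom (algebraMap R B))) n) : Module.Flat R B := by
  haveI : IsFinite (Spec.map (CommRingCat.ofHom (algebraMap R B))) :=
    (IsFinite.SpecMap_iff _).mpr (RingHom.finite_algebraMap.mpr inferInstance)
  have key : ∀ p : PrimeSpectrum R,
      Module.finrank p.asIdeal.ResidueField (p.asIdeal.ResidueField ⊗[R] B) = n := by
    intro p
    let κ := p.asIdeal.ResidueField
    let j : Spec (CommRingCat.of κ) ⟶ Spec (CommRingCat.of R) :=
      Spec.map (CommRingCat.ofHom (algebraMap R κ))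
    obtain ⟨L, _, l, y, hy⟩ := H κ j
    rw [finrank_pullback_comp] at hy
    have hsq := (isPullback_SpecMap_of_isPushout _ _ _ _
      (CommRingCat.isPushout_tensorProduct R κ B)).flip
    haveI : Flat (pullback.snd (Spec.map (CommRingCat.ofHom (algebraMap R B))) j) := flat_to_field _
    have e : (Spec.map (CommRingCat.ofHom (algebraMap κ (κ ⊗[R] B)))).finrank (l y) =
        (pullback.snd (Spec.map (CommRingCat.ofHom (algebraMap R B))) j).finrank (l y) := by
      rw [show Spec.map (CommRingCat.ofHom (algebraMap κ (κ ⊗[R] B))) =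
        hsq.isoPullback.hom ≫ pullback.snd _ _ from hsq.isoPullback_hom_snd.symm,
        Scheme.Hom.finrank_comp_left_of_isIso]
    rw [← e, Scheme.Hom.finrank_SpecMap_algebraMap, Module.rankAtStalk_eq_finrank_of_free] at hy
    exact hy
  have hp : Module.Projective R B := FlatGenStable.projective_of_isLocallyConstant_fibre
    (by simp_rw [key]; exact IsLocallyConstant.const n)
  infer_instance

theorem hasFibreRank_pullback {X Q U : Scheme.{u}} (f : Q ⟶ X) [IsFinite f] (c : U ⟶ X) (n : ℕ)
    (H : HasFibreRank f n) : HasFibreRank (pullback.snd f c) n := by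
  intro K _ j
  obtain ⟨L, _, l, y, hy⟩ := H K (j ≫ c)
  refine ⟨L, inferInstance, l, y, ?_⟩
  haveI : Flat (pullback.snd f ((l ≫ j) ≫ c)) := flat_to_field _
  rw [← pullbackLeftPullbackSndIso_hom_snd f c (l ≫ j), Scheme.Hom.finrank_comp_left_of_isIso]
  have key : ∀ (m m' : Spec (CommRingCat.of L) ⟶ X), m = m' →
      (pullback.snd f m).finrank y = (pullback.snd f m').finrank y := by
    rintro m _ rfl
    rfl
  exact (key _ _ (Category.assoc _ _ _)).trans hy

theorem flat_of_hasFibreRank_affine {R : CommRingCat.{u}} [IsReduced (Spec R)] {Q : Scheme.{u}}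
    (g : Q ⟶ Spec R) [IsFinite g] (n : ℕ) (hg : HasFibreRank g n) : Flat g := by
  haveI : IsAffine Q := isAffine_of_isAffineHom g
  obtain ⟨φ, hφ⟩ := Spec.map_surjective (Q.isoSpec.inv ≫ g)
  haveI : _root_.IsReduced R := (affine_isReduced_iff R).mp ‹_›
  haveI hfin : IsFinite (Spec.map φ) := by rw [hφ]; infer_instance
  have hφfin : φ.hom.Finite := (IsFinite.SpecMap_iff _).mp hfin
  have hS : HasFibreRank (Spec.map φ) n := by
    intro K _ j
    obtain ⟨L, _, l, y, hy⟩ := hg K j
    refine ⟨L, inferInstance, l, y, ?_⟩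
    haveI : Flat (pullback.snd g (l ≫ j)) := flat_to_field _
    haveI : Flat (pullback.snd (Spec.map φ) (l ≫ j)) := flat_to_field _
    let e : pullback (Spec.map φ) (l ≫ j) ⟶ pullback g (l ≫ j) :=
      pullback.map _ _ _ _ Q.isoSpec.inv (𝟙 _) (𝟙 _) (by rw [Category.comp_id, hφ]) (by simp)
    rw [← hy, show pullback.snd (Spec.map φ) (l ≫ j) = e ≫ pullback.snd g (l ≫ j) by simp [e],
      Scheme.Hom.finrank_comp_left_of_isIso]
  haveI : Flat (Spec.map φ) := by
    letI := φ.hom.toAlgebra
    haveI : Module.Finite R Γ(Q, ⊤) := hφfin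
    have h := flat_of_hasFibreRank_spec (R := R) (B := Γ(Q, ⊤)) n hS
    exact (Flat.SpecMap_iff (f := φ)).mpr h
  have hfac : g = Q.isoSpec.hom ≫ Spec.map φ := by rw [hφ, Iso.hom_inv_id_assoc]
  rw [hfac]
  infer_instance

/-- A finite morphism to a reduced scheme with constant fibre rank is flat. -/
theorem flat_of_hasFibreRank {X Q : Scheme.{u}} [IsReduced X] (f : Q ⟶ X) [IsFinite f] (n : ℕ)
    (H : HasFibreRank f n) : Flat f := by
  haveI : IsZariskiLocalAtTarget (@Flat : MorphismProperty Scheme.{u}) :=
    HasRingHomProperty.instIsZariskiLocalAtTarget _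
  refine IsZariskiLocalAtTarget.of_openCover (P := @Flat) X.affineCover fun i => ?_
  have hr := isReduced_of_isOpenImmersion (X.affineCover.f i)
  have hfin : IsFinite (pullback.snd f (X.affineCover.f i)) :=
    MorphismProperty.pullback_snd (P := @IsFinite) _ _ inferInstance
  exact @flat_of_hasFibreRank_affine _ hr _ (pullback.snd f (X.affineCover.f i)) hfin n (hasFibreRank_pullback f _ n H)

end Groth.Agent.TorsFlatLib
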